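import Groth.Agent.Betti41.Semicont
import Groth.Agent.PerfAmp41.Main
import Groth.Agent.FlatModel41.Exactness
import Groth.Agent.QCGroth72.Category

/-!
Exactness of `M ↦ H^p(M ⊗^L F)`, flatness of two cokernels, and fibre Betti numbers.
-/

set_option autoImplicit false
set_option linter.style.haveILetI false
set_option linter.unusedSectionVars false

noncomputable section

universe u

open CategoryTheory Limits AlgebraicGeometry
open Groth.Agent.DCX42 Groth.Agent.PerfAmp41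
open Groth.Agent.Props58.LocFree (fiberRank)
attribute [local instance] HasDerivedCategory.standard

namespace Groth.Agent.Betti41

variable {X : Scheme.{u}}

/-- Free charts along open immersions give a finite locally free module. -/
theorem isFinLocFree_of_charts (M : X.Modules)
    (h : ∀ x : X, ∃ (U : Scheme.{u}) (j : U ⟶ X) (_ : IsOpenImmersion j) (n : ℕ), x ∈ Set.range j.base ∧
      Nonempty ((Scheme.Modules.restrictFunctor j).obj M ≅ FlatMod.freeMod U n)) :
    FlatMod.IsFinLocFree M := by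
  intro x
  obtain ⟨U, j, _, n, hx, ⟨e⟩⟩ := h x
  obtain ⟨i, _, hi⟩ := exists_opens_iso j
  obtain ⟨e'⟩ := DCX42.isFree_restrict e i
  exact ⟨j.opensRange, n, hx, ⟨(Scheme.Modules.restrictFunctorCongr hi).symm.app M ≪≫
    (Scheme.Modules.restrictFunctorComp i j).app M ≪≫ e'⟩⟩

theorem isFinLocFree_of_immersions (M : X.Modules)
    (h : ∀ x : X, ∃ (U : Scheme.{u}) (j : U ⟶ X) (_ : IsOpenImmersion j), x ∈ Set.range j.base ∧
      FlatMod.IsFinLocFree ((Scheme.Modules.restrictFunctor j).obj M)) : FlatMod.IsFinLocFree M :=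
  isFinLocFree_of_charts M fun x => by
    obtain ⟨U, j, _, ⟨u, hu⟩, hU⟩ := h x
    obtain ⟨W, n, hW, ⟨e⟩⟩ := hU u
    exact ⟨W, W.ι ≫ j, inferInstance, n, ⟨⟨u, hW⟩, by simpa using hu⟩,
      ⟨(Scheme.Modules.restrictFunctorComp W.ι j).app M ≪≫ e⟩⟩

/-- The kernel of an epimorphism of finite locally free modules is finite locally free. -/
theorem isFinLocFree_X₁ (S : ShortComplex X.Modules) (hS : S.ShortExact) (h₂ : FlatMod.IsFinLocFree S.X₂)
    (h₃ : FlatMod.IsFinLocFree S.X₃) : FlatMod.IsFinLocFree S.X₁ := by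
  refine isFinLocFree_of_immersions _ fun x => ?_
  obtain ⟨A, a, hxA, ⟨eA⟩⟩ := h₃ x
  obtain ⟨B, b, hxB, ⟨eB⟩⟩ := DCX42.isFinLocFree_restrict h₂ A.ι ⟨x, hxA⟩
  let G := Scheme.Modules.restrictFunctor A.ι ⋙ Scheme.Modules.restrictFunctor B.ι
  haveI : PreservesFiniteLimits G := comp_preservesFiniteLimits _ _
  haveI : PreservesFiniteColimits G := comp_preservesFiniteColimits _ _
  let S' := S.map G
  have hS' : S'.ShortExact := hS.map_of_exact G
  haveI : Epi S'.g := hS'.epi_g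
  obtain ⟨e3⟩ := DCX42.isFree_restrict eA B.ι
  obtain ⟨T, l, hxT, hl⟩ := DCX42.exists_free_lift (M := S'.X₃) e3 (𝟙 _) S'.g ⟨⟨x, hxA⟩, hxB⟩
  haveI := DCX42.preservesFiniteLimits_restrict T.ι
  haveI := DCX42.preservesFiniteColimits_restrict T.ι
  let R := Scheme.Modules.restrictFunctor T.ι
  let S'' := S'.map R
  have hS'' : S''.ShortExact := hS'.map_of_exact R
  let sp : S''.Splitting := ShortComplex.Splitting.ofExactOfSection S'' hS''.exact l
    (hl.trans (R.map_id _)) hS''.mono_f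
  obtain ⟨e2⟩ := DCX42.isFree_restrict (eB : S'.X₂ ≅ _) T.ι
  have hfree : FlatMod.IsFinLocFree S''.X₁ :=
    DCX42.isFinLocFree_of_retract (S''.f ≫ e2.hom) (e2.inv ≫ sp.r)
      ((Category.assoc _ _ _).trans ((congrArg (S''.f ≫ ·) (e2.hom_inv_id_assoc sp.r)).trans sp.f_r))
  refine ⟨T, T.ι ≫ B.ι ≫ A.ι, inferInstance, ⟨⟨⟨⟨x, hxA⟩, hxB⟩, hxT⟩, by simp⟩,
    DCX42.isFinLocFree_of_iso ?_ hfree⟩
  exact (R.mapIso ((Scheme.Modules.restrictFunctorComp B.ι A.ι).symm.app S.X₁)) ≪≫
    (Scheme.Modules.restrictFunctorComp T.ι (B.ι ≫ A.ι)).symm.app S.X₁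

lemma exact_opcycles (K : CochainComplex X.Modules ℤ) (j : ℤ) :
    (ShortComplex.mk (K.fromOpcycles j (j + 1)) (K.pOpcycles (j + 1)) (fromOpcycles_pOpcycles K j)).Exact := by
  let S₁ := ShortComplex.mk (K.d j (j + 1)) (K.pOpcycles (j + 1)) (K.d_pOpcycles j (j + 1))
  let φ : S₁ ⟶ ShortComplex.mk (K.fromOpcycles j (j + 1)) (K.pOpcycles (j + 1)) (fromOpcycles_pOpcycles K j) :=
    { τ₁ := K.pOpcycles j, τ₂ := 𝟙 _, τ₃ := 𝟙 _
      comm₁₂ := by simp [S₁]
      comm₂₃ := by simp [S₁] }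
  haveI : Epi φ.τ₁ := inferInstanceAs (Epi (K.pOpcycles j))
  haveI : IsIso φ.τ₂ := inferInstanceAs (IsIso (𝟙 _))
  haveI : Mono φ.τ₃ := inferInstanceAs (Mono (𝟙 _))
  exact (ShortComplex.exact_iff_of_epi_of_isIso_of_mono φ).1
    (ShortComplex.exact_of_g_is_cokernel _ (K.opcyclesIsCokernel j (j + 1) (by simp)))

/-- Homology between two finite locally free cokernels is finite locally free. -/
theorem isFinLocFree_homology (K : CochainComplex X.Modules ℤ) (p : ℤ) (hX : FlatMod.IsFinLocFree (K.X (p + 1)))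
    (h₀ : FlatMod.IsFinLocFree (cokernel (K.d (p - 1) p))) (h₁ : FlatMod.IsFinLocFree (cokernel (K.d p (p + 1)))) :
    FlatMod.IsFinLocFree (K.homology p) := by
  have hI : FlatMod.IsFinLocFree (kernel (K.pOpcycles (p + 1))) :=
    isFinLocFree_X₁ (ShortComplex.mk _ _ (kernel.condition (K.pOpcycles (p + 1))))
      { exact := ShortComplex.exact_of_f_is_kernel _ (kernelIsKernel (K.pOpcycles (p + 1)))
        mono_f := inferInstanceAs (Mono (kernel.ι (K.pOpcycles (p + 1))))
        epi_g := inferInstanceAs (Epi (K.pOpcycles (p + 1))) }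
      hX (DCX42.isFinLocFree_of_iso (cokerOp K p (p + 1) rfl) h₁)
  let l := kernel.lift (K.pOpcycles (p + 1)) (K.fromOpcycles p (p + 1)) (fromOpcycles_pOpcycles K p)
  haveI hl : Epi l := (ShortComplex.exact_iff_epi_kernel_lift _).1 (exact_opcycles K p)
  have hcomp : l ≫ kernel.ι _ = K.fromOpcycles p (p + 1) := kernel.lift_ι _ _ _
  let S₁ := ShortComplex.mk (K.homologyι p) l (by
    rw [← cancel_mono (kernel.ι (K.pOpcycles (p + 1))), zero_comp, Category.assoc, hcomp,
      K.homologyι_comp_fromOpcycles])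
  let S₂ := ShortComplex.mk (K.homologyι p) (K.fromOpcycles p (p + 1)) (K.homologyι_comp_fromOpcycles p (p + 1))
  let φ : S₁ ⟶ S₂ :=
    { τ₁ := 𝟙 _, τ₂ := 𝟙 _, τ₃ := kernel.ι (K.pOpcycles (p + 1))
      comm₁₂ := by simp [S₁, S₂]
      comm₂₃ := by simp [S₁, S₂, hcomp] }
  haveI : Epi φ.τ₁ := inferInstanceAs (Epi (𝟙 _))
  haveI : IsIso φ.τ₂ := inferInstanceAs (IsIso (𝟙 _))
  haveI : Mono φ.τ₃ := inferInstanceAs (Mono (kernel.ι _))
  exact isFinLocFree_X₁ S₁
    { exact := (ShortComplex.exact_iff_of_epi_of_isIso_of_mono φ).2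
        (ShortComplex.exact_of_f_is_kernel S₂ (K.homologyIsKernel p (p + 1) (by simp)))
      mono_f := inferInstanceAs (Mono (K.homologyι p))
      epi_g := hl }
    (DCX42.isFinLocFree_of_iso (cokerOp K (p - 1) p (by omega)) h₀) hI

lemma isFinLocFree_coker_of_flat {U : Scheme.{u}} {F : CochainComplex U.Modules ℤ}
    (hF : ∀ i, FlatMod.IsFinLocFree (F.X i)) (a b : ℤ) (h : FlatMod.IsFlat (cokernel (F.d a b))) :
    FlatMod.IsFinLocFree (cokernel (F.d a b)) := by
  have hfp : CohB1.IsFP (cokernel (F.d a b)) :=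
    LimTop61.isFP_cokernel _ (Props58.LocFree.isFP_of_isFinLocFree (hF _)) (Props58.LocFree.isFP_of_isFinLocFree (hF _))
  exact Props58.LocFree.isFinLocFree_of_isFP hfp fun x => @Props58.LocFree.free_stalk_of_flat _ _ hfp x (h x)

variable {P : CochainComplex X.Modules ℤ} {e p : ℤ} (hPb : ∀ i, e < i → IsZero (P.X i))
  (hP : ∀ i, FlatMod.IsFlat (P.X i)) (hpc : DCoh.IsPseudoCoherentD (p - 1) (DCoh.toD X P))

include hpc in
/-- A chart on which a chain map from free modules approximates. -/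
theorem exists_chart (x : X) :
    ∃ (U : Scheme.{u}) (j : U ⟶ X) (_ : IsOpenImmersion j) (F : CochainComplex U.Modules ℤ)
      (β : F ⟶ (resCx j).obj P), x ∈ Set.range j.base ∧ DCoh.IsStrictlyPerfect F ∧ IsTermFree F ∧
        PCMap (p - 1) (DerivedCategory.Q.map β) := by
  obtain ⟨U, j, _, F, α, ⟨u, hu⟩, hF, hfree, hα⟩ := exists_approx _ (p - 1) hpc x
  obtain ⟨W, β, huW, -, hβ⟩ := exists_rep_map hF (α ≫ (resQ j P).hom) u
  refine ⟨W, W.ι ≫ j, inferInstance, (resCx W.ι).obj F, β ≫ (resCompCx W.ι j).hom.app P,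
    ⟨⟨u, huW⟩, by simpa using hu⟩, isStrictlyPerfect_restrict hF W.ι, hfree.restrict W.ι, ?_⟩
  rw [Functor.map_comp]
  exact (hβ _ (hα.comp (PCMap.of_isIso _ _))).comp (PCMap.of_isIso _ _)

include hPb hP hpc in
/-- Flat cokernels give a locally free cohomology sheaf and locally constant Betti numbers. -/
theorem consequences {L : DCoh.D X} (eL : DCoh.toD X P ≅ L) [∀ x : X, DCoh.HasLpull (X.fromSpecResidueField x)]
    (h₀ : FlatMod.IsFlat (cokernel (P.d (p - 1) p))) (h₁ : FlatMod.IsFlat (cokernel (P.d p (p + 1)))) :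
    FlatMod.IsFinLocFree (DCoh.HD L p) ∧ IsLocallyConstant (fun x : X => PerfD.betti L x p) := by
  have key : ∀ x : X, ∃ (U : Scheme.{u}) (j : U ⟶ X) (_ : IsOpenImmersion j), x ∈ Set.range j.base ∧
      FlatMod.IsFinLocFree ((Scheme.Modules.restrictFunctor j).obj (DCoh.HD L p)) ∧
      ∃ (M₀ M₁ : U.Modules) (c : ℕ), FlatMod.IsFinLocFree M₀ ∧ FlatMod.IsFinLocFree M₁ ∧
        ∀ w : U, PerfD.betti L (j w) p + c = fiberRank M₀ w + fiberRank M₁ w := by
    intro x
    obtain ⟨U, j, _, F, β, hx, hF, hfree, hβ⟩ := exists_chart hpc x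
    obtain ⟨hiso, -⟩ := (pcMap_Q_iff β (p - 1)).1 hβ
    choose n en using hfree
    obtain ⟨⟨a, b, hab⟩, hFf⟩ := hF
    have hflat : ∀ q, p - 1 ≤ q → FlatMod.IsFlat (cokernel (P.d q (q + 1))) →
        FlatMod.IsFlat (cokernel (F.d q (q + 1))) := fun q hq hPq =>
      DCK91.flatMod_of_isFlat _ (((flatX U).coker_iff_of_iso_homology β q (max b e)
        (fun i => isFinLocFree_flat (hFf i)) (fun i => DCK91.isFlat_of_flatMod _ (isFlat_restrict j (hP i)))
        (fun i hi => hab i (Or.inr (by omega)))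
        (fun i hi => (Scheme.Modules.restrictFunctor j).map_isZero (hPb i (by omega)))
        (fun i hi => hiso i (by omega))).2
        (DCK91.isFlat_of_flatMod _ (PerfAmp41.isFlat_of_iso (cokerResIso j P q (q + 1)) (isFlat_restrict j hPq))))
    have hF₀ : FlatMod.IsFinLocFree (cokernel (F.d (p - 1) p)) := by
      obtain ⟨q, rfl⟩ : ∃ q, p = q + 1 := ⟨p - 1, by omega⟩
      rw [show q + 1 - 1 = q by omega] at h₀ ⊢
      exact isFinLocFree_coker_of_flat hFf _ _ (hflat q (by omega) h₀)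
    have hF₁ : FlatMod.IsFinLocFree (cokernel (F.d p (p + 1))) :=
      isFinLocFree_coker_of_flat hFf _ _ (hflat p (by omega) h₁)
    refine ⟨U, j, inferInstance, hx, ?_, cokernel (F.d (p - 1) p), cokernel (F.d p (p + 1)), n (p + 1), hF₀, hF₁,
      fun w => betti_formula j ⟨⟨a, b, hab⟩, hFf⟩ n en
        (DerivedCategory.Q.map β ≫ (resQ j P).inv ≫ (resD j).map eL.hom)
        (hβ.comp ((PCMap.of_isIso _ _).comp (PCMap.of_isIso _ _))) w⟩
    haveI := hiso p (by omega)
    exact DCX42.isFinLocFree_of_iso (asIso (HomologicalComplex.homologyMap β p) ≪≫ homologyResIso j P p ≪≫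
      (Scheme.Modules.restrictFunctor j).mapIso (((DerivedCategory.homologyFunctorFactors X.Modules p).app P).symm ≪≫
        (DerivedCategory.homologyFunctor X.Modules p).mapIso eL))
      (isFinLocFree_homology F p (hFf _) hF₀ hF₁)
  refine ⟨isFinLocFree_of_immersions _ fun x => ?_, (IsLocallyConstant.iff_exists_open _).2 fun x => ?_⟩
  · obtain ⟨U, j, _, hx, h, -⟩ := key x
    exact ⟨U, j, inferInstance, hx, h⟩
  · obtain ⟨U, j, _, ⟨w, rfl⟩, -, M₀, M₁, c, hM₀, hM₁, hf⟩ := key x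
    obtain ⟨A, hA, hwA, hA'⟩ :=
      (IsLocallyConstant.iff_exists_open _).1 (Props58.LocFree.isLocallyConstant_fiberRank hM₀) w
    obtain ⟨B, hB, hwB, hB'⟩ :=
      (IsLocallyConstant.iff_exists_open _).1 (Props58.LocFree.isLocallyConstant_fiberRank hM₁) w
    refine ⟨j '' (A ∩ B), j.isOpenEmbedding.isOpenMap _ (hA.inter hB), ⟨w, ⟨hwA, hwB⟩, rfl⟩, ?_⟩
    rintro _ ⟨v, ⟨hvA, hvB⟩, rfl⟩
    have := hA' v hvA
    have := hB' v hvB
    have := hf v
    have := hf w
    change PerfD.betti L (j v) p = PerfD.betti L (j w) p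
    omega

include hPb hP hpc in
/-- Locally constant Betti numbers on a reduced scheme give flat cokernels. -/
theorem flat_cokernels_of_betti [IsReduced X] {L : DCoh.D X} (eL : DCoh.toD X P ≅ L)
    [∀ x : X, DCoh.HasLpull (X.fromSpecResidueField x)]
    (hc : IsLocallyConstant (fun x : X => PerfD.betti L x p)) :
    FlatMod.IsFlat (cokernel (P.d (p - 1) p)) ∧ FlatMod.IsFlat (cokernel (P.d p (p + 1))) := by
  suffices H : ∀ x : X, ∀ q, q = p - 1 ∨ q = p → FlatMod.IsFlatAt (cokernel (P.d q (q + 1))) x by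
    refine ⟨fun x => ?_, fun x => H x p (Or.inr rfl)⟩
    have := H x (p - 1) (Or.inl rfl)
    rwa [sub_add_cancel] at this
  intro x
  obtain ⟨U, j, _, F, β, hx, hF, hfree, hβ⟩ := exists_chart hpc x
  obtain ⟨hiso, -⟩ := (pcMap_Q_iff β (p - 1)).1 hβ
  choose n en using hfree
  obtain ⟨⟨a, b, hab⟩, hFf⟩ := hF
  have hf : ∀ w : U, PerfD.betti L (j w) p + n (p + 1) =
      fiberRank (cokernel (F.d (p - 1) p)) w + fiberRank (cokernel (F.d p (p + 1))) w := fun w =>
    betti_formula j ⟨⟨a, b, hab⟩, hFf⟩ n en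
      (DerivedCategory.Q.map β ≫ (resQ j P).inv ≫ (resD j).map eL.hom)
      (hβ.comp ((PCMap.of_isIso _ _).comp (PCMap.of_isIso _ _))) w
  have hfp : ∀ q r : ℤ, CohB1.IsFP (cokernel (F.d q r)) := fun q r =>
    LimTop61.isFP_cokernel _ (Props58.LocFree.isFP_of_isFinLocFree (hFf _)) (Props58.LocFree.isFP_of_isFinLocFree (hFf _))
  have hconst : IsLocallyConstant (fiberRank (cokernel (F.d (p - 1) p))) ∧
      IsLocallyConstant (fiberRank (cokernel (F.d p (p + 1)))) := by
    haveI := hfp (p - 1) p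
    haveI := hfp p (p + 1)
    have : ∀ w : U, ∃ O : Set U, IsOpen O ∧ w ∈ O ∧ ∀ v ∈ O,
        fiberRank (cokernel (F.d (p - 1) p)) v = fiberRank (cokernel (F.d (p - 1) p)) w ∧
        fiberRank (cokernel (F.d p (p + 1))) v = fiberRank (cokernel (F.d p (p + 1))) w := fun w => by
      obtain ⟨A, hwA, hA⟩ := exists_nhd_fiberRank_le (cokernel (F.d (p - 1) p)) w
      obtain ⟨B, hwB, hB⟩ := exists_nhd_fiberRank_le (cokernel (F.d p (p + 1))) w
      obtain ⟨O, hO, hwO, hO'⟩ := (IsLocallyConstant.iff_exists_open _).1 hc (j w)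
      refine ⟨(A : Set U) ∩ B ∩ j ⁻¹' O, (A.isOpen.inter B.isOpen).inter (hO.preimage j.continuous),
        ⟨⟨hwA, hwB⟩, hwO⟩, fun v ⟨⟨hvA, hvB⟩, hvO⟩ => ?_⟩
      have := hA v hvA
      have := hB v hvB
      have h3 : PerfD.betti L (j v) p = PerfD.betti L (j w) p := hO' _ hvO
      have := hf v
      have := hf w
      omega
    exact ⟨(IsLocallyConstant.iff_exists_open _).2 fun w =>
        let ⟨O, hO, hw, h⟩ := this w; ⟨O, hO, hw, fun v hv => (h v hv).1⟩,
      (IsLocallyConstant.iff_exists_open _).2 fun w =>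
        let ⟨O, hO, hw, h⟩ := this w; ⟨O, hO, hw, fun v hv => (h v hv).2⟩⟩
  haveI : IsReduced U := isReduced_of_isOpenImmersion j
  intro q hq
  obtain ⟨u, rfl⟩ := hx
  have hlf : FlatMod.IsFinLocFree (cokernel (F.d q (q + 1))) := by
    haveI := hfp q (q + 1)
    refine Props58.LocFree.isFinLocFree_of_isReduced ?_
    rcases hq with rfl | rfl
    · rw [sub_add_cancel]; exact hconst.1
    · exact hconst.2
  have h' := ((flatX U).coker_iff_of_iso_homology β q (max b e)
    (fun i => isFinLocFree_flat (hFf i)) (fun i => DCK91.isFlat_of_flatMod _ (isFlat_restrict j (hP i)))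
    (fun i hi => hab i (Or.inr (by omega)))
    (fun i hi => (Scheme.Modules.restrictFunctor j).map_isZero (hPb i (by omega)))
    (fun i hi => hiso i (by omega))).1 (isFinLocFree_flat hlf)
  exact (isFlatAt_restrict_iff j _ u).1
    (isFlatAt_of_iso (cokerResIso j P q (q + 1)).symm u (DCK91.flatMod_of_isFlat _ h' u))

end Groth.Agent.Betti41
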