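import Groth.Agent.Betti41.Exact
import Groth.Agent.StalkExact41.Spread

/-!
Exactness of `M ↦ H^p(M ⊗^L F)` against local freeness of `H^p` and constancy of Betti numbers.
-/

set_option autoImplicit false
set_option linter.style.haveILetI false
set_option linter.unusedSectionVars false

noncomputable section

universe u

open CategoryTheory Limits AlgebraicGeometry
open Groth.Agent.PerfAmp41
attribute [local instance] HasDerivedCategory.standard

namespace Groth.Agent.Betti41

section Site

variable {C : Type u} [SmallCategory C] {J : GrothendieckTopology C} {O : Sheaf J CommRingCat.{u}}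

open Groth.Agent.Mod48 in
/-- Exactness makes both cokernels of a flat resolution flat. -/
theorem flat_cokernels_of_exact (E P : CC O) [ModSite.HasLTensorCx E] (b : ℤ)
    (hb : ∀ i, b < i → IsZero (P.X i)) (hP : ∀ i, ModSite.IsFlat (P.X i)) (c : P ⟶ E) (hc : QuasiIso c) (p : ℤ)
    [PreservesFiniteLimits (DerivedCategory.singleFunctor (ModSite.Mod O) 0 ⋙ ModSite.LTensorCx E ⋙
      DerivedCategory.homologyFunctor (ModSite.Mod O) p)]
    [PreservesFiniteColimits (DerivedCategory.singleFunctor (ModSite.Mod O) 0 ⋙ ModSite.LTensorCx E ⋙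
      DerivedCategory.homologyFunctor (ModSite.Mod O) p)] :
    ModSite.IsFlat (cokernel (P.d (p - 1) p)) ∧ ModSite.IsFlat (cokernel (P.d p (p + 1))) := by
  haveI := hc
  have hk := DCK91.isKFlat_of_le P b ((CochainComplex.isStrictlyLE_iff P b).2 hb) hP
  obtain ⟨e⟩ := FlatModel41.nonempty_HFun_iso E P hk c p
  have hl := (FlatModel41.preservesFiniteLimits_iff_of_iso e).1 inferInstance
  have hr := (FlatModel41.preservesFiniteColimits_iff_succ (FlatModel41.GE P) (FlatModel41.shortExact_GE P hP) p).1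
    ((FlatModel41.preservesFiniteColimits_iff_of_iso e).1 inferInstance)
  refine ⟨?_, (FlatModel41.isFlat_cokernel_iff P p hP).2 hr⟩
  obtain ⟨q, rfl⟩ : ∃ q, p = q + 1 := ⟨p - 1, by omega⟩
  rw [show q + 1 - 1 = q by omega]
  exact (FlatModel41.isFlat_cokernel_iff P q hP).2 hl

end Site

variable {X : Scheme.{u}} (F : CochainComplex X.Modules ℤ) (e : ℤ) [(DCoh.toD X F).IsLE e] (p : ℤ)

include e in
theorem finLocFree_HD_and_locallyConstant (hE : DCoh.IsPseudoCoherentD (p - 1) (DCoh.toD X F))
    [DCoh.HasLTensorCx F]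
    [PreservesFiniteLimits (DerivedCategory.singleFunctor X.Modules 0 ⋙ DCoh.LTensorCx F ⋙ DerivedCategory.homologyFunctor X.Modules p)]
    [PreservesFiniteColimits (DerivedCategory.singleFunctor X.Modules 0 ⋙ DCoh.LTensorCx F ⋙ DerivedCategory.homologyFunctor X.Modules p)]
    [∀ x : X, DCoh.HasLpull (X.fromSpecResidueField x)] :
    FlatMod.IsFinLocFree (DCoh.HD (DCoh.toD X F) p) ∧
      IsLocallyConstant (fun x : X => PerfD.betti (DCoh.toD X F) x p) := by
  obtain ⟨P, c, hPb, hP, hc⟩ := StalkExact41.exists_res F e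
  haveI := hc
  haveI := (DerivedCategory.isIso_Q_map_iff_quasiIso X.Modules c).2 hc
  haveI : ModSite.HasLTensorCx (O := X.sheaf) F := (inferInstance : DCoh.HasLTensorCx F)
  haveI : PreservesFiniteLimits (DerivedCategory.singleFunctor (ModSite.Mod X.sheaf) 0 ⋙
      ModSite.LTensorCx (O := X.sheaf) F ⋙ DerivedCategory.homologyFunctor (ModSite.Mod X.sheaf) p) :=
    (inferInstance : PreservesFiniteLimits (DerivedCategory.singleFunctor X.Modules 0 ⋙ DCoh.LTensorCx F ⋙
      DerivedCategory.homologyFunctor X.Modules p))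
  haveI : PreservesFiniteColimits (DerivedCategory.singleFunctor (ModSite.Mod X.sheaf) 0 ⋙
      ModSite.LTensorCx (O := X.sheaf) F ⋙ DerivedCategory.homologyFunctor (ModSite.Mod X.sheaf) p) :=
    (inferInstance : PreservesFiniteColimits (DerivedCategory.singleFunctor X.Modules 0 ⋙ DCoh.LTensorCx F ⋙
      DerivedCategory.homologyFunctor X.Modules p))
  obtain ⟨h₀, h₁⟩ := flat_cokernels_of_exact (O := X.sheaf) F P e hPb (fun i => DCK91.isFlat_of_flatMod _ (hP i))
    c hc p
  exact consequences hPb hP (DCX42.isPC_of_iso (asIso (DerivedCategory.Q.map c)).symm hE)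
    (asIso (DerivedCategory.Q.map c)) (DCK91.flatMod_of_isFlat _ h₀) (DCK91.flatMod_of_isFlat _ h₁)

include e in
theorem exact_qcoh_of_betti [IsReduced X] (hE : DCoh.IsPseudoCoherentD (p - 1) (DCoh.toD X F))
    [∀ x : X, DCoh.HasLpull (X.fromSpecResidueField x)] [DCoh.HasLTensorCx F]
    (hc : IsLocallyConstant (fun x : X => PerfD.betti (DCoh.toD X F) x p)) :
    PreservesFiniteLimits ((QCohCat.isQCoh X).ι ⋙ DerivedCategory.singleFunctor X.Modules 0 ⋙ DCoh.LTensorCx F ⋙
        DerivedCategory.homologyFunctor X.Modules p) ∧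
      PreservesFiniteColimits ((QCohCat.isQCoh X).ι ⋙ DerivedCategory.singleFunctor X.Modules 0 ⋙ DCoh.LTensorCx F ⋙
        DerivedCategory.homologyFunctor X.Modules p) := by
  obtain ⟨P, c, hPb, hP, hqc⟩ := StalkExact41.exists_res F e
  haveI := hqc
  haveI := (DerivedCategory.isIso_Q_map_iff_quasiIso X.Modules c).2 hqc
  haveI : ModSite.HasLTensorCx (O := X.sheaf) F := (inferInstance : DCoh.HasLTensorCx F)
  obtain ⟨h₀, h₁⟩ := flat_cokernels_of_betti hPb hP (DCX42.isPC_of_iso (asIso (DerivedCategory.Q.map c)).symm hE)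
    (asIso (DerivedCategory.Q.map c)) hc
  haveI hl : PreservesFiniteLimits (DerivedCategory.singleFunctor X.Modules 0 ⋙ DCoh.LTensorCx F ⋙
      DerivedCategory.homologyFunctor X.Modules p) :=
    StalkExact41.leftExact_of_flat_coker (O := X.sheaf) F P e hPb (fun i => DCK91.isFlat_of_flatMod _ (hP i))
      c hqc (p - 1) p (by omega) (DCK91.isFlat_of_flatMod _ h₀)
  haveI hr : PreservesFiniteColimits (DerivedCategory.singleFunctor X.Modules 0 ⋙ DCoh.LTensorCx F ⋙
      DerivedCategory.homologyFunctor X.Modules p) :=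
    StalkExact41.rightExact_of_flat_coker (O := X.sheaf) F P e hPb (fun i => DCK91.isFlat_of_flatMod _ (hP i))
      c hqc p (DCK91.isFlat_of_flatMod _ h₁)
  haveI : PreservesFiniteColimits (QCohCat.isQCoh X).ι :=
    PreservesColimitsOfSize.preservesFiniteColimits _
  exact ⟨comp_preservesFiniteLimits _ _, comp_preservesFiniteColimits _ _⟩

end Groth.Agent.Betti41
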