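import Groth.Agent.PerfFib24.Euler
import Groth.Agent.DCK91.PullStalk
import Groth.Agent.Props58.LocFree.Criteria
import Mathlib.LinearAlgebra.TensorProduct.Tower

/-!
Fibre ranks of modules: semicontinuity, and global sections of the inverse image on a one point scheme.
-/

set_option autoImplicit false
set_option linter.style.haveILetI false
set_option backward.isDefEq.respectTransparency.types false

noncomputable section

universe u

open CategoryTheory Limits AlgebraicGeometry TopologicalSpace Opposite TensorProduct
open Groth.Agent.QC70 Groth.Agent.Props58.LocFree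

namespace Groth.Agent.Betti41

variable {X : Scheme.{u}}

/-- Fibre ranks of modules of finite type do not go up near a point. -/
theorem exists_nhd_fiberRank_le (M : X.Modules) [M.IsFiniteType] (x : X) :
    ∃ W : X.Opens, x ∈ W ∧ ∀ y ∈ W, fiberRank M y ≤ fiberRank M x := by
  have hfin := fun y : X => finite_stalk_of_isFiniteType (M := M) y
  let κ := IsLocalRing.ResidueField (X.presheaf.stalk x)
  let b := Module.finBasis κ (TensorProduct (X.presheaf.stalk x) κ (M.presheaf.stalk x))
  choose e he using fun i => TensorProduct.mk_surjective (X.presheaf.stalk x) (M.presheaf.stalk x) κ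
    IsLocalRing.residue_surjective (b i)
  obtain ⟨U, hx, s, hs⟩ := exists_lift_family x e
  have hsurj : Function.Surjective (germComb s x hx) := by
    intro z
    have h := IsLocalRing.span_eq_top_of_tmul_eq_basis (R := X.presheaf.stalk x) e b he
    obtain ⟨c, hc⟩ := (Submodule.mem_span_range_iff_exists_fun _).mp (h ▸ Submodule.mem_top : z ∈ _)
    exact ⟨c, by simp only [germComb, hs]; exact hc⟩
  obtain ⟨W, hW, hxW, hWs⟩ := exists_nhd_surjective s hx hsurj
  refine ⟨W, hxW, fun y hy => ?_⟩
  let l := Fintype.linearCombination (X.presheaf.stalk y) fun i => germM M U y (hW hy) (s i)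
  have hl : ⇑l = germComb s y (hW hy) := funext fun c => by
    rw [Fintype.linearCombination_apply]; rfl
  have hg : Function.Surjective (l.baseChange (IsLocalRing.ResidueField (X.presheaf.stalk y))) :=
    LinearMap.lTensor_surjective _ (hl ▸ hWs y hy)
  refine (LinearMap.finrank_le_finrank_of_surjective hg).trans ?_
  rw [Module.finrank_baseChange, Module.finrank_fin_fun]

variable {T : Scheme.{u}}

/-- On a one point scheme global sections are the stalk. -/
theorem finrank_secTop_eq [Subsingleton T] (N : T.Modules) (t : T) :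
    Module.finrank (Coh.Γtop T) ((PerfFib24.secTop T).obj N) =
      Module.finrank (T.presheaf.stalk t) (N.presheaf.stalk t) := by
  have htop : ∀ (V : T.Opens), t ∈ V → V = ⊤ := fun V hV => PerfFib24.eq_top_of_mem T hV
  have hO : Function.Bijective (T.presheaf.germ ⊤ t trivial) := by
    refine ⟨fun a b h => ?_, fun z => ?_⟩
    · obtain ⟨W, hW, iU, iV, he⟩ := T.presheaf.germ_eq t (show t ∈ (⊤ : T.Opens) from trivial) (show t ∈ (⊤ : T.Opens) from trivial) a b h
      obtain rfl := htop W hW
      simpa [Subsingleton.elim iU (𝟙 _), Subsingleton.elim iV (𝟙 _)] using he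
    · obtain ⟨W, hW, s, rfl⟩ := T.presheaf.exists_germ_eq (x := t) z
      obtain rfl := htop W hW
      exact ⟨s, rfl⟩
  have hN : Function.Bijective (germM N ⊤ t trivial) := by
    refine ⟨fun a b h => ?_, fun z => ?_⟩
    · obtain ⟨W, hW, iU, iV, he⟩ := N.presheaf.germ_eq t (show t ∈ (⊤ : T.Opens) from trivial) (show t ∈ (⊤ : T.Opens) from trivial) a b h
      obtain rfl := htop W hW
      simpa [Subsingleton.elim iU (𝟙 _), Subsingleton.elim iV (𝟙 _)] using he
    · obtain ⟨W, hW, s, rfl⟩ := germM_exist z
      obtain rfl := htop W hW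
      exact ⟨s, rfl⟩
  let eN : Γ(N, ⊤) →+ N.presheaf.stalk t :=
    { toFun := fun s => germM N ⊤ t trivial s, map_zero' := germM_zero _, map_add' := fun a b => germM_add _ a b }
  have h := rank_eq_of_equiv_equiv (R := Γ(T, ⊤)) (R' := T.presheaf.stalk t) (M := Γ(N, ⊤))
    (M₁ := N.presheaf.stalk t) (T.presheaf.germ ⊤ t trivial) (AddEquiv.ofBijective eN hN) hO
    (fun r s => germM_smul (show t ∈ (⊤ : T.Opens) from trivial) r s)
  exact congrArg Cardinal.toNat h

/-- The stalk of an inverse image at a point with a field as local ring has the fibre rank as dimension. -/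
theorem finrank_stalk_pullback (f : T ⟶ X) (M : X.Modules) (t : T) (hK : IsField (T.presheaf.stalk t)) :
    Module.finrank (T.presheaf.stalk t) (((Scheme.Modules.pullback f).obj M).presheaf.stalk t) =
      fiberRank M (f t) := by
  let A := X.presheaf.stalk (f t)
  let K := T.presheaf.stalk t
  letI := hK.toField
  letI : Algebra A K := (f.stalkMap t).hom.toAlgebra
  letI := Module.compHom (((Scheme.Modules.pullback f).obj M).presheaf.stalk t) (f.stalkMap t).hom
  haveI : IsScalarTower A K (((Scheme.Modules.pullback f).obj M).presheaf.stalk t) :=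
    IsScalarTower.of_algebraMap_smul fun r e => rfl
  rw [← (DCK91.isBaseChange_pullη f M t).equiv.finrank_eq]
  haveI : IsLocalHom (f.stalkMap t).hom := inferInstance
  let ψ : IsLocalRing.ResidueField A →+* K :=
    Ideal.Quotient.lift (IsLocalRing.maximalIdeal A) (f.stalkMap t).hom fun a ha => by
      by_contra h
      exact (IsLocalRing.mem_maximalIdeal a).1 ha (IsLocalHom.map_nonunit a (IsUnit.mk0 _ h))
  letI : Algebra (IsLocalRing.ResidueField A) K := ψ.toAlgebra
  haveI : IsScalarTower A (IsLocalRing.ResidueField A) K := IsScalarTower.of_algebraMap_eq fun a => rfl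
  rw [← (AlgebraTensorModule.cancelBaseChange A (IsLocalRing.ResidueField A) K K (M.presheaf.stalk (f t))).finrank_eq,
    Module.finrank_baseChange]

theorem finrank_secTop_pullback [Subsingleton T] (f : T ⟶ X) (M : X.Modules) (t : T)
    (hK : IsField (T.presheaf.stalk t)) :
    Module.finrank (Coh.Γtop T) ((PerfFib24.secTop T).obj ((Scheme.Modules.pullback f).obj M)) =
      fiberRank M (f t) :=
  (finrank_secTop_eq _ t).trans (finrank_stalk_pullback f M t hK)

theorem isField_stalk_of_Γtop [Subsingleton T] (h : IsField (Coh.Γtop T)) (t : T) :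
    IsField (T.presheaf.stalk t) := by
  have hO : Function.Bijective (T.presheaf.germ ⊤ t trivial) := by
    refine ⟨fun a b he => ?_, fun z => ?_⟩
    · obtain ⟨W, hW, iU, iV, he⟩ := T.presheaf.germ_eq t (show t ∈ (⊤ : T.Opens) from trivial) (show t ∈ (⊤ : T.Opens) from trivial) a b he
      obtain rfl := PerfFib24.eq_top_of_mem T hW
      simpa [Subsingleton.elim iU (𝟙 _), Subsingleton.elim iV (𝟙 _)] using he
    · obtain ⟨W, hW, s, rfl⟩ := T.presheaf.exists_germ_eq (x := t) z
      obtain rfl := PerfFib24.eq_top_of_mem T hW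
      exact ⟨s, rfl⟩
  exact MulEquiv.isField h (RingEquiv.ofBijective (T.presheaf.germ ⊤ t trivial).hom hO).symm.toMulEquiv

end Groth.Agent.Betti41
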