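import Groth.Agent.Betti41.FibRank
import Groth.Agent.DCX42.PC
import Groth.Agent.LimTop61.FPDescend

/-!
Fibre Betti numbers of pseudo-coherent objects are upper semicontinuous.
-/

set_option autoImplicit false
set_option linter.style.haveILetI false
set_option backward.isDefEq.respectTransparency.types false

noncomputable section

universe u

open CategoryTheory Limits AlgebraicGeometry TopologicalSpace Opposite
open Groth.Agent.DCX42
open Groth.Agent.Props58.LocFree (fiberRank)
attribute [local instance] HasDerivedCategory.standard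

namespace Groth.Agent.Betti41

variable {K : Type u} [DivisionRing K]

lemma finrank_cokernel_add {M N : ModuleCat.{u} K} (f : M ⟶ N) [Module.Finite K N] :
    Module.finrank K (cokernel f : ModuleCat.{u} K) + Module.finrank K (LinearMap.range f.hom) =
      Module.finrank K N := by
  rw [(ModuleCat.cokernelIsoRangeQuotient f).toLinearEquiv.finrank_eq]
  exact Submodule.finrank_quotient_add_finrank _

/-- Homology dimensions through cokernels of differentials. -/
theorem finrank_homology_add_cokernels (C : CochainComplex (ModuleCat.{u} K) ℤ)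
    (hfin : ∀ i, Module.Finite K (C.X i)) (p : ℤ) :
    Module.finrank K (C.homology p) + Module.finrank K (C.X (p + 1)) =
      Module.finrank K (cokernel (C.d (p - 1) p) : ModuleCat.{u} K) +
        Module.finrank K (cokernel (C.d p (p + 1)) : ModuleCat.{u} K) := by
  haveI : Module.Finite K (C.sc' (p - 1) p (p + 1)).X₂ := hfin p
  have h := PerfFib24.finrank_homology_add (C.sc' (p - 1) p (p + 1))
  have h1 := LinearEquiv.finrank_eq (C.homologyIsoSc' (p - 1) p (p + 1) (by simp) (by simp)).toLinearEquiv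
  haveI := hfin p
  haveI := hfin (p + 1)
  have h2 := finrank_cokernel_add (C.d (p - 1) p)
  have h3 := finrank_cokernel_add (C.d p (p + 1))
  change _ + Module.finrank K (LinearMap.range (C.d (p - 1) p).hom) +
    Module.finrank K (LinearMap.range (C.d p (p + 1)).hom) = Module.finrank K (C.X p) at h
  rw [h1]
  omega

variable {X Y : Scheme.{u}}

/-- Cohomology of the derived inverse image through an approximation. -/
theorem nonempty_HD_lpull_iso (f : Y ⟶ X) [DCoh.HasLpull f] {E : CochainComplex X.Modules ℤ}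
    (hE : DCoh.IsStrictlyPerfect E) {L : DCoh.D X} {m : ℤ} (α : DerivedCategory.Q.obj E ⟶ L) (hα : PCMap m α)
    (p : ℤ) (hp : m < p) :
    Nonempty (DCoh.HD ((DCoh.Lpull f).obj L) p ≅
      (((Scheme.Modules.pullback f).mapHomologicalComplex (ComplexShape.up ℤ)).obj E).homology p) := by
  obtain ⟨C, β, γ, hT⟩ := Pretriangulated.distinguished_cocone_triangle α
  obtain ⟨T', hT', ⟨e₁⟩, ⟨e₂⟩, ⟨e₃⟩⟩ := exists_Lpull_triangle f _ hT
  have hC : T'.obj₃.IsLE (m - 1) :=
    have : ((DCoh.Lpull f).obj (Pretriangulated.Triangle.mk α β γ).obj₃).IsLE (m - 1) :=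
      isLE_Lpull f ((pcMap_iff_isLE hT m).1 hα)
    (DerivedCategory.TStructure.t).isLE_of_iso e₃.symm (m - 1)
  have h1 : PCMap m T'.mor₁ := (pcMap_iff_isLE (β := T'.mor₂) (γ := T'.mor₃) hT' m).2 hC
  haveI := h1.1 p hp
  let H := DerivedCategory.homologyFunctor Y.Modules p
  exact ⟨H.mapIso e₂.symm ≪≫ (asIso (H.map T'.mor₁)).symm ≪≫ H.mapIso (e₁ ≪≫ lpullSP f hE) ≪≫
    (DerivedCategory.homologyFunctorFactors Y.Modules p).app _⟩

/-- Homology of the inverse image of a complex of free modules on the spectrum of a field. -/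
theorem finrank_homology_pullback {T W : Scheme.{u}} [Subsingleton T] (hT : IsField (Coh.Γtop T)) (t : T)
    (g : T ⟶ W) (F : CochainComplex W.Modules ℤ) (n : ℤ → ℕ)
    (e : ∀ i, Nonempty (F.X i ≅ FlatMod.freeMod W (n i))) (p : ℤ) :
    Module.finrank (Coh.Γtop T) ((PerfFib24.secTop T).obj
        ((((Scheme.Modules.pullback g).mapHomologicalComplex (ComplexShape.up ℤ)).obj F).homology p)) + n (p + 1) =
      fiberRank (cokernel (F.d (p - 1) p)) (g t) + fiberRank (cokernel (F.d p (p + 1))) (g t) := by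
  letI : DivisionRing (Coh.Γtop T) := hT.toField.toDivisionRing
  haveI : Nonempty T := ⟨t⟩
  haveI := PerfFib24.preservesHomology_secTop T
  let G := Scheme.Modules.pullback g
  let P := (G.mapHomologicalComplex (ComplexShape.up ℤ)).obj F
  let S := PerfFib24.secTop T
  let C := (S.mapHomologicalComplex (ComplexShape.up ℤ)).obj P
  have hfr : ∀ i, Module.finrank (Coh.Γtop T) (C.X i) = n i ∧ Module.Finite (Coh.Γtop T) (C.X i) := fun i => by
    obtain ⟨e'⟩ := e i
    obtain ⟨h1, h2⟩ := PerfFib24.finrank_freeMod_top T hT (n i)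
    let l := (S.mapIso (G.mapIso e' ≪≫ FrB.pullbackFreeIso g (n i))).toLinearEquiv
    exact ⟨l.finrank_eq.trans h1, Module.Finite.equiv l.symm⟩
  haveI : PreservesFiniteColimits S := Functor.preservesFiniteColimits_of_preservesHomology S
  have hc : ∀ i j, Module.finrank (Coh.Γtop T) (cokernel (C.d i j) : ModuleCat.{u} (Coh.Γtop T)) =
      fiberRank (cokernel (F.d i j)) (g t) := fun i j => by
    exact (LinearEquiv.finrank_eq (S.mapIso (PreservesCokernel.iso G (F.d i j)) ≪≫
      PreservesCokernel.iso S (P.d i j)).toLinearEquiv).symm.trans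
        (finrank_secTop_pullback g _ t (isField_stalk_of_Γtop hT t))
  have h := finrank_homology_add_cokernels C (fun i => (hfr i).2) p
  rw [(hfr (p + 1)).1, hc, hc] at h
  exact (congrArg (· + n (p + 1))
    (LinearEquiv.finrank_eq ((P.sc p).mapHomologyIso S).toLinearEquiv).symm).trans h

variable [∀ x : X, DCoh.HasLpull (X.fromSpecResidueField x)]

/-- The fibre Betti numbers through an approximation by free modules. -/
theorem betti_formula {L : DCoh.D X} {p : ℤ} {W : Scheme.{u}} (j : W ⟶ X) [IsOpenImmersion j]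
    {F : CochainComplex W.Modules ℤ} (hF : DCoh.IsStrictlyPerfect F) (n : ℤ → ℕ)
    (e : ∀ i, Nonempty (F.X i ≅ FlatMod.freeMod W (n i)))
    (α : DerivedCategory.Q.obj F ⟶ (resD j).obj L) (hα : PCMap (p - 1) α) (w : W) :
    PerfD.betti L (j w) p + n (p + 1) =
      fiberRank (cokernel (F.d (p - 1) p)) w + fiberRank (cokernel (F.d p (p + 1))) w := by
  let y : X := j w
  let T := Spec (X.residueField y)
  let q : T ⟶ X := X.fromSpecResidueField y
  have hr : Set.range q ⊆ Set.range j := by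
    rintro _ ⟨t, rfl⟩
    exact ⟨w, (Scheme.fromSpecResidueField_apply y t).symm⟩
  let g := IsOpenImmersion.lift j q hr
  have hg : g ≫ j = q := IsOpenImmersion.lift_fac _ _ _
  have := DCK91.hasLpull g
  have := DCK91.hasLpull j
  have : DCoh.HasLpull (g ≫ j) := hg ▸ inferInstance
  obtain ⟨c⟩ := DCK91.Lpull_comp g j
  obtain ⟨r⟩ := nonempty_Lpull_iso_resD j
  have hc : ∀ {a b : T ⟶ X} (_ : a = b) [DCoh.HasLpull a] [DCoh.HasLpull b],
      Nonempty (DCoh.Lpull a ≅ DCoh.Lpull b) := by
    intro a b hab _ _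
    subst hab
    exact ⟨Iso.refl _⟩
  obtain ⟨c'⟩ := hc hg.symm
  obtain ⟨φ⟩ := nonempty_HD_lpull_iso g hF α hα p (by omega)
  let k : DCoh.HD ((DCoh.Lpull q).obj L) p ≅
      (((Scheme.Modules.pullback g).mapHomologicalComplex (ComplexShape.up ℤ)).obj F).homology p :=
    (DerivedCategory.homologyFunctor T.Modules p).mapIso (c'.app L ≪≫ c.symm.app L ≪≫ (DCoh.Lpull g).mapIso
      (r.app L)) ≪≫ φ
  have hsub : Subsingleton T := inferInstanceAs (Subsingleton (PrimeSpectrum (X.residueField y)))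
  obtain ⟨t⟩ : Nonempty T := inferInstanceAs (Nonempty (PrimeSpectrum (X.residueField y)))
  have hT : IsField (Coh.Γtop T) := PerfFib24.isField_Γtop _ (Field.toIsField (X.residueField y))
  have hgt : g t = w := by
    apply j.isOpenEmbedding.injective
    change (g ≫ j) t = j w
    rw [hg]
    exact Scheme.fromSpecResidueField_apply y t
  have hmain := finrank_homology_pullback hT t g F n e p
  rw [hgt] at hmain
  rw [← LinearEquiv.finrank_eq ((PerfFib24.secTop T).mapIso k).toLinearEquiv] at hmain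
  exact hmain

omit [∀ x : X, DCoh.HasLpull (X.fromSpecResidueField x)] in
/-- A chart by free modules approximating an object. -/
theorem exists_approx (L : DCoh.D X) (m : ℤ) (h : DCoh.IsPseudoCoherentD m L) (x : X) :
    ∃ (W : Scheme.{u}) (j : W ⟶ X) (_ : IsOpenImmersion j) (F : CochainComplex W.Modules ℤ)
      (α : DerivedCategory.Q.obj F ⟶ (resD j).obj L),
      x ∈ Set.range j.base ∧ DCoh.IsStrictlyPerfect F ∧ IsTermFree F ∧ PCMap m α := by
  obtain ⟨V, hxV, E₀, α, hE₀, hα⟩ := (isPC_iff _ L).1 h x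
  obtain ⟨W, hxW, hfree⟩ := exists_termFree hE₀ ⟨x, hxV⟩
  exact ⟨W, W.ι ≫ V.ι, inferInstance, (resCx W.ι).obj E₀,
    (resQ W.ι E₀).inv ≫ (resD W.ι).map α ≫ ((resDComp W.ι V.ι).app L).hom, ⟨⟨⟨x, hxV⟩, hxW⟩, rfl⟩,
    isStrictlyPerfect_restrict hE₀ W.ι, hfree,
    (PCMap.of_isIso _ _).comp ((hα.map _).comp (PCMap.of_isIso _ _))⟩

/-- Local formula for the fibre Betti numbers of a pseudo-coherent object. -/
theorem exists_formula (L : DCoh.D X) (p : ℤ) (h : DCoh.IsPseudoCoherentD (p - 1) L) (x : X) :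
    ∃ (W : Scheme.{u}) (j : W ⟶ X) (_ : IsOpenImmersion j) (M₀ M₁ : W.Modules) (c : ℕ),
      x ∈ Set.range j.base ∧ CohB1.IsFP M₀ ∧ CohB1.IsFP M₁ ∧
        ∀ w : W, PerfD.betti L (j w) p + c = fiberRank M₀ w + fiberRank M₁ w := by
  obtain ⟨W, j, _, F, α, hx, hF, hfree, hα⟩ := exists_approx L (p - 1) h x
  choose n e using hfree
  exact ⟨W, j, inferInstance, cokernel (F.d (p - 1) p), cokernel (F.d p (p + 1)), n (p + 1), hx,
    LimTop61.isFP_cokernel _ (Props58.LocFree.isFP_of_isFinLocFree (hF.2 _)) (Props58.LocFree.isFP_of_isFinLocFree (hF.2 _)),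
    LimTop61.isFP_cokernel _ (Props58.LocFree.isFP_of_isFinLocFree (hF.2 _)) (Props58.LocFree.isFP_of_isFinLocFree (hF.2 _)),
    fun w => betti_formula j hF n e α hα w⟩

/-- Upper semicontinuity. -/
theorem isOpen_betti_lt (L : DCoh.D X) (p : ℤ) (h : DCoh.IsPseudoCoherentD (p - 1) L) (k : ℕ) :
    IsOpen {x : X | PerfD.betti L x p < k} := by
  rw [isOpen_iff_forall_mem_open]
  intro x hx
  obtain ⟨W, j, _, M₀, M₁, c, ⟨w, rfl⟩, h₀, h₁, hf⟩ := exists_formula L p h x
  haveI := h₀
  haveI := h₁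
  obtain ⟨A, hwA, hA⟩ := exists_nhd_fiberRank_le M₀ w
  obtain ⟨B, hwB, hB⟩ := exists_nhd_fiberRank_le M₁ w
  refine ⟨(j ''ᵁ (A ⊓ B) : Set X), ?_, (j ''ᵁ (A ⊓ B)).isOpen, ⟨w, ⟨hwA, hwB⟩, rfl⟩⟩
  rintro _ ⟨v, ⟨hvA, hvB⟩, rfl⟩
  have := hA v hvA
  have := hB v hvB
  have := hf v
  have := hf w
  have hx' : PerfD.betti L (j w) p < k := hx
  have h1 : PerfD.betti L (j v) p < k := by omega
  exact h1

end Groth.Agent.Betti41
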